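import Cfsg.Agent.Lib.Wr.Lin
import Cfsg.Agent.Lib.Orth.Semis

/-!
# Sylow `2`-subgroups of orthogonal groups in odd characteristic
-/

set_option autoImplicit false

namespace Cfsg.Lib.Wr

open Subgroup Module QuadraticMap Cfsg.Lib.Orth
open Equiv (Perm)

variable {F U V : Type*} [Field F] [AddCommGroup U] [Module F U] [AddCommGroup V] [Module F V]
  {ι : Type*} [Fintype ι] {R : QuadraticForm F U} {Q : QuadraticForm F V}

variable (F) in
/-- The plane `x² + y²`. -/
abbrev pl : QuadraticForm F (Fin 2 → F) := qDiag fun _ => 1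

variable (ι) in
/-- An orthogonal sum of planes `x² + y²` and `R`. -/
abbrev plSum (R : QuadraticForm F U) : QuadraticForm F ((ι → Fin 2 → F) × U) :=
  (QuadraticMap.pi fun _ : ι => pl F).prod R

theorem plSum_equivalent :
    (plSum ι R).Equivalent ((qDiag fun _ : ι × Fin 2 => (1 : F)).prod R) :=
  equivalent_of ((LinearEquiv.curry F F ι (Fin 2)).symm.prodCongr 1) fun v => by
    simp [qDiag_apply, Fintype.sum_prod_type]

theorem nd_pl (h2 : (2 : F) ≠ 0) : ND (pl F) := nd_qDiag h2 fun _ => one_ne_zero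

theorem nd_plSum (h2 : (2 : F) ≠ 0) (hR : ND R) : ND (plSum ι R) :=
  nd_of_equivalent plSum_equivalent.symm (nd_prod (nd_qDiag h2 fun _ => one_ne_zero) hR)

theorem cperm_mem (s : Perm (ι × Fin 2)) : cperm F U ι (Fin 2) s ∈ O (plSum ι R) := fun v => by
  have := Equiv.sum_comp s.symm fun p : ι × Fin 2 => v.1 p.1 p.2 ^ 2
  simp only [Fintype.sum_prod_type] at this
  simp only [prod_apply, pi_apply, qDiag_apply, one_mul, ← this]
  rfl

variable (ι R) in
/-- The imprimitive subgroup of `O (plSum ι R)`. -/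
def oData : Data (O (plSum ι R)) ι (O (pl F)) (O R) :=
  (linData F (Fin 2 → F) U ι).restrict _ (O _).subtype_injective (O R).subtype_injective
    (fun b e v => congrArg₂ (· + ·) ((pi_apply _ _).trans ((Finset.sum_congr rfl fun i _ =>
      (b i).2 (v.1 i)).trans (pi_apply _ _).symm)) (e.2 v.2)) fun t => cperm_mem (Equiv.prodCongr t (.refl _))

theorem τ_mem_commutator (t : Perm ι) : (oData ι R).τ t ∈ commutator (O (plSum ι R)) :=
  map_mem_commutator ((cperm F U ι (Fin 2)).codRestrict _ cperm_mem) (prodCongr_mem_commutator t)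

variable [DecidableEq ι]

theorem plSum_single (i : ι) (v : Fin 2 → F) : plSum ι R (Pi.single i v, 0) = pl F v := by
  simp [-pi_apply, pi_apply_single]

theorem inc_refl (i : ι) (v : Fin 2 → F) :
    (oData ι R).inc i (refl _ v) = refl (plSum ι R) (Pi.single i v, 0) := O.ext fun x => by
  have h : polar (plSum ι R) (Pi.single i v, 0) x = polar (pl F) v (x.1 i) := by
    simp only [polar_prod, polar_zero_left, add_zero, Ring.polar_pi]
    rw [Finset.sum_eq_single i] <;> simp +contextual [Pi.single_eq_of_ne]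
  rw [refl_apply, plSum_single, h]
  refine Prod.ext (funext fun j => ?_) (by simp; rfl)
  change ((Pi.mulSingle i (refl _ v) : ι → O (pl F)) j).1 (x.1 j) = _
  rcases eq_or_ne j i with rfl | h1
  · simp [refl_apply]
  · simp [h1]

omit [DecidableEq ι] in
theorem κ_refl (v : U) : (oData ι R).κ (refl _ v) = refl (plSum ι R) (0, v) := O.ext fun x => by
  rw [refl_apply]
  exact Prod.ext (by simp; rfl) (by simp [← refl_apply]; rfl)

variable [Finite F] [FiniteDimensional F U] [FiniteDimensional F V]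

/-- A Sylow `2`-subgroup of an orthogonal group of dimension at most two is generated by
reflections. -/
theorem sylow_le_of_refl (hR : ND R) (h : finrank F U ≤ 2) (P : Sylow 2 (O R))
    {K : Subgroup (O R)} (hK : ∀ v, R v ≠ 0 → refl R v ∈ (P : Subgroup (O R)) → refl R v ∈ K) :
    (P : Subgroup (O R)) ≤ K := by
  have h1 : ∀ g ∈ (P : Subgroup (O R)), dickson hR g = -1 → g ∈ K := fun g hg e => by
    have h2 := (Submodule.finrank_le (O.comm g)).trans h
    have h3 := mt (dickson_eq_one_iff hR (g := g)).2 (by rw [e]; decide)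
    obtain ⟨v, hv, rfl⟩ := exists_eq_refl_of_finrank_comm hR (g := g) (by
      rw [Nat.not_even_iff_odd, Nat.odd_iff] at h3; omega)
    exact hK v hv hg
  intro g hg
  rcases subsingleton_or_nontrivial U with hU | hU
  · exact (O.ext fun _ => Subsingleton.elim _ _ : g = 1) ▸ one_mem _
  obtain ⟨r, hr, e⟩ : ∃ r ∈ (P : Subgroup (O R)), dickson hR r = -1 := by
    by_contra! H
    exact P.not_dvd_index ((index_ker_dickson hR finrank_pos).symm.dvd.trans
      (index_dvd_of_le fun r hr => (Int.units_eq_one_or _).resolve_right (H r hr)))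
  rcases Int.units_eq_one_or (dickson hR g) with h2 | h2
  · exact (K.mul_mem_cancel_right (h1 r hr e)).1 (h1 _ (mul_mem hg hr) (by simp [h2, e]))
  · exact h1 g hg h2

theorem exists_refl_mem_sylow (hR : ND R) (h2 : (2 : F) ≠ 0) (h : finrank F U = 2)
    (P : Sylow 2 (O R)) (s : ℤˣ) :
    ∃ v, R v ≠ 0 ∧ sqsign (R v) = s ∧ refl R v ∈ (P : Subgroup (O R)) := by
  have h1 : (P : Subgroup (O R)).map (dsHom hR) = ⊤ := by
    rw [← index_eq_one]
    have h3 := index_dvd_card ((P : Subgroup (O R)).map (dsHom hR))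
    rw [show Nat.card (ℤˣ × ℤˣ) = 2 ^ 2 by simp] at h3
    exact Nat.Coprime.eq_one_of_dvd (Nat.Coprime.pow_right 2 (Nat.coprime_two_right.2
      (Nat.not_even_iff_odd.1 fun e => P.not_dvd_index (e.two_dvd.trans
        (index_map_dvd _ (dsHom_surjective hR h2 h.ge)))))) h3
  obtain ⟨g, hg, e⟩ := h1.ge (mem_top (-1, s))
  obtain ⟨v, hv, rfl⟩ := exists_eq_refl_of_finrank_two hR h (congrArg Prod.fst e)
  exact ⟨v, hv, (spinor_refl hR hv).symm.trans (congrArg Prod.snd e), hg⟩

theorem sylEA_plSum (h2 : (2 : F) ≠ 0) (hR : ND R) (h : finrank F U ≤ 2) [Nontrivial ι]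
    (hc : padicValNat 2 (Nat.card (O (plSum ι R))) ≤ Nat.card ι * padicValNat 2 (Nat.card (O (pl F))) +
      padicValNat 2 (Nat.card (O R)) + padicValNat 2 (Nat.card ι).factorial) :
    SylEA 2 (commutator (O (plSum ι R))) := by
  obtain ⟨i, j, hij⟩ := exists_pair_ne ι
  let W := oData ι R
  let D : Sylow 2 (O (pl F)) := default
  let E : Sylow 2 (O R) := default
  let T : Sylow 2 (Perm ι) := default
  choose v hv hs hD using exists_refl_mem_sylow (nd_pl h2) h2 (by simp) D
  let r : ι → O (pl F) := fun k => refl _ (v (if k = i then 1 else -1))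
  let K := ((Subgroup.pi Set.univ fun k => zpowers (r k)).prod (⊥ : Subgroup (O R))).map W.β
  have hr : ∀ u : Fin 2 → F, refl (pl F) u ^ 2 = 1 := fun u => by rw [pow_two, refl_mul_self]
  have hK : K ≤ W.S D E T := by
    rintro _ ⟨⟨f, e⟩, ⟨h1, h3⟩, rfl⟩
    exact W.β_mem (fun k => zpowers_le.2 (hD _) (h1 k trivial)) ((show e = 1 from h3) ▸ one_mem _)
  have h3 : ∀ (x : O (plSum ι R)) w, plSum ι R w ≠ 0 → x = refl _ w → x ∈ W.S D E T → ∀ k u,
      pl F u ≠ 0 → refl _ u ∈ (D : Subgroup (O (pl F))) → sqsign (plSum ι R w) = sqsign (pl F u) →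
      Commute x (W.inc k (refl _ u)) →
      x * W.inc k (refl _ u) ∈ pw 2 (W.S D E T ⊓ commutator _) := fun x w hw e hx k u hu h4 h5 h6 =>
    mul_mem_pw ⟨mul_mem hx (W.inc_mem k h4), by
      rw [e, inc_refl]
      exact refl_mul_refl_mem_commutator' (nd_plSum h2 hR) hw (plSum_single (R := R) k u ▸ hu)
        (plSum_single (R := R) k u ▸ h5)⟩
      (by rw [e, pow_two, refl_mul_self]) (by rw [← map_pow, hr, map_one]) h6
  have h4 : ∀ k s, W.inc k (refl _ (v s)) ∈ pw 2 (W.S D E T ⊓ commutator _) ⊔ K := fun k s => by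
    obtain ⟨l, hl⟩ : ∃ l, r l = refl _ (v s) := by
      rcases Int.units_eq_one_or s with rfl | rfl
      exacts [⟨i, by simp [r]⟩, ⟨j, by simp [r, hij.symm]⟩]
    exact mem_sup_of_mul (h3 _ _ (plSum_single (R := R) k _ ▸ hv s) (inc_refl k _)
      (W.inc_mem k (hD s)) l _ (hv s) (hD s) (by rw [plSum_single]) (W.commute_inc fun _ => .refl _))
      (mem_sup_right ⟨(Pi.mulSingle l (refl _ (v s)), 1), ⟨(mulSingle_mem_pi _ _).2 fun _ =>
        hl ▸ mem_zpowers _, rfl⟩, rfl⟩)
  refine W.sylEA' hc D E T _ (fun t _ => τ_mem_commutator t) hK (fun c hc h1 => ?_)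
    (fun k _ hd => sylow_le_of_refl (K := .comap (W.inc k) (_ ⊔ K)) (nd_pl h2) (by simp) D
      (fun u hu h1 => ?_) hd)
    (fun _ he => sylow_le_of_refl (K := .comap W.κ (_ ⊔ K)) hR h E (fun u hu h1 => ?_) he)
  · refine mem_pw_of_pow ⟨hK hc, h1⟩ ?_
    obtain ⟨⟨f, e⟩, ⟨h5, h6⟩, rfl⟩ := hc
    rw [← map_pow, show (f, e) ^ 2 = 1 from Prod.ext (funext fun k => ?_) (by
      rw [show e = 1 from h6]; exact one_pow 2), map_one]
    obtain ⟨n, hn⟩ := h5 k trivial
    change f k ^ 2 = 1
    rw [← show r k ^ n = f k from hn, ← zpow_natCast, ← zpow_mul, mul_comm, zpow_mul,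
      zpow_natCast, hr, one_zpow]
  · obtain ⟨l, hl⟩ := exists_ne k
    exact mem_sup_of_mul (h3 _ _ (plSum_single (R := R) k _ ▸ hu) (inc_refl k _) (W.inc_mem k h1) l _
      (hv _) (hD _) (by rw [plSum_single, hs]) (W.commute_inc fun e => absurd e.symm hl)) (h4 l _)
  · exact mem_sup_of_mul (h3 _ (0, u) (by simpa using hu) (κ_refl u) (W.κ_mem h1) i _
      (hv _) (hD _) (by rw [hs]) (W.commute_κ _ _ _)) (h4 i _)

theorem val_eq_one {c : ℕ} (h : c % 4 = 2) : padicValNat 2 c = 1 := by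
  rw [show c = 2 * (c / 2) by omega, padicValNat.mul two_ne_zero (by omega),
    padicValNat.eq_zero_of_not_dvd (n := c / 2) (by omega), padicValNat_self]

theorem val_O_odd (hQ : ND Q) {m : ℕ} (hV : finrank F V = 2 * m + 1) :
    padicValNat 2 (Nat.card (O Q)) =
      1 + m * padicValNat 2 (Nat.card F ^ 2 - 1) + padicValNat 2 m.factorial := by
  cases nonempty_fintype F
  have hq := odd_card_iff.2 (two_ne_zero_of_odd_finrank hQ ⟨m, hV⟩)
  rw [← Nat.card_eq_fintype_card] at hq
  have h0 := prod_ne_zero (Finite.one_lt_card (α := F)) m (fun i => 2 * (i + 1)) (by simp)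
  rw [card_O_odd hQ hV, mul_assoc, padicValNat.mul two_ne_zero (mul_ne_zero hq.pow.pos.ne' h0),
    val_pow_mul hq _ h0, val_prod_sp hq Finite.one_lt_card, padicValNat_self, add_assoc]

theorem val_O_even (hQ : ND Q) (h2 : (2 : F) ≠ 0) {m : ℕ} (hV : finrank F V = 2 * (m + 1)) :
    padicValNat 2 (Nat.card (O Q)) = if disc Q = 1 then
      (m + 1) * padicValNat 2 (Nat.card F ^ 2 - 1) + padicValNat 2 (m + 1).factorial else
      2 + m * padicValNat 2 (Nat.card F ^ 2 - 1) + padicValNat 2 m.factorial := by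
  cases nonempty_fintype F
  have hq := odd_card_iff.2 h2
  have h4 := wittIndex_eq_iff_disc hQ h2 hV
  have h5 := sqsign_neg_one_pow h2 (m + 1)
  rw [← Nat.card_eq_fintype_card] at hq h5
  have h1 := Finite.one_lt_card (α := F)
  have h0 := prod_ne_zero h1 m (fun i => 2 * (i + 1)) (by simp)
  have h6 := pow_mod_four_eq_one_or hq (m + 1)
  have h7 := Nat.one_lt_pow m.succ_ne_zero h1
  have h8 := val_pow_even hq h1 m.succ_ne_zero
  rw [mul_comm 2, pow_mul, ← one_pow 2, Nat.sq_sub_sq, padicValNat.mul (by omega) (by omega),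
    one_pow] at h8
  have h9 : ∀ c, c ≠ 0 → padicValNat 2 (2 * Nat.card F ^ ((m + 1) * m) * c *
      ∏ i ∈ Finset.range m, (Nat.card F ^ (2 * (i + 1)) - 1)) = 1 + padicValNat 2 c +
      m * padicValNat 2 (Nat.card F ^ 2 - 1) + padicValNat 2 m.factorial := fun c hc => by
    rw [mul_assoc, mul_assoc, padicValNat.mul two_ne_zero (mul_ne_zero hq.pow.pos.ne'
      (mul_ne_zero hc h0)), val_pow_mul hq _ (mul_ne_zero hc h0), padicValNat.mul hc h0,
      val_prod_sp hq h1, padicValNat_self]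
    ring
  rw [Nat.factorial_succ, padicValNat.mul m.succ_ne_zero m.factorial_ne_zero, add_mul, one_mul]
  simp only [Nat.succ_eq_add_one] at *
  have h10 : ∀ a b : ℤˣ, a = b ↔ (a = 1 ↔ b = 1) := by decide
  rcases wittIndex_eq_or hQ hV with hw | hw
  · rw [card_O_plus hQ hV hw, h9 _ (by omega)]
    split_ifs with h
    · rw [val_eq_one (by have := h5.1 ((h4.1 hw).symm.trans h); omega)] at h8; omega
    · rw [val_eq_one (by have := mt h5.2 ((h4.1 hw) ▸ h); omega)]
  · rw [card_O_minus hQ hV (by omega), h9 _ (by omega)]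
    have h11 := (h10 _ _).not.1 (h4.not.1 (by omega))
    split_ifs with h
    · rw [val_eq_one (c := _ - 1) (by have := mt h5.2 (by tauto); omega)] at h8; omega
    · rw [val_eq_one (by have := h5.1 (by tauto); omega)]

theorem sylEA_omega (hQ : ND Q) (h2 : (2 : F) ≠ 0)
    (h : 5 ≤ finrank F V ∨ finrank F V = 4 ∧ disc Q = 1) : SylEA 2 (commutator (O Q)) := by
  have h1 : padicValNat 2 (Nat.card (O (pl F))) = padicValNat 2 (Nat.card F ^ 2 - 1) := by
    rw [val_O_even (nd_pl h2) h2 (m := 0) (by simp), if_pos (by simp [disc_qDiag])]; simp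
  have key : ∀ (k r : ℕ) (w : Fin r → F), (∀ i, w i ≠ 0) → 2 ≤ k → r ≤ 2 →
      Nonempty (O Q ≃* O (plSum (Fin k) (qDiag w))) → padicValNat 2 (Nat.card (O Q)) ≤
        k * padicValNat 2 (Nat.card F ^ 2 - 1) + padicValNat 2 (Nat.card (O (qDiag w))) +
        padicValNat 2 k.factorial → SylEA 2 (commutator (O Q)) := fun k r w hw hk hr ⟨e⟩ hc => by
    haveI : Nontrivial (Fin k) := Fin.nontrivial_iff_two_le.2 hk
    exact (sylEA_plSum h2 (nd_qDiag h2 hw) (by simpa using hr) (by
      simpa [h1, ← Nat.card_congr e.toEquiv] using hc)).congr (commutatorCongr e.symm)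
  have h3 : ∀ (k r : ℕ) (w : Fin r → F), (∀ i, w i ≠ 0) →
      disc (plSum (Fin k) (qDiag w)) = disc (qDiag w) := fun k r w hw => by
    rw [disc_congr (Q' := (qDiag fun _ => 1).prod (qDiag w)) plSum_equivalent, disc_prod (nd_qDiag h2 fun _ => one_ne_zero) (nd_qDiag h2 hw),
      disc_qDiag]
    simp [pow_mul]
  rcases Nat.even_or_odd' (finrank F V) with ⟨m, hm | hm⟩
  · obtain ⟨m, rfl⟩ : ∃ k, m = k + 1 := ⟨m - 1, by omega⟩
    by_cases hd : disc Q = 1
    · refine key (m + 1) 0 1 (by simp) (by omega) (by omega) (nonempty_O_equiv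
        (equivalent_of_disc_eq hQ (nd_plSum h2 (nd_qDiag h2 (by simp))) h2 (by
          simp [hm, finrank_pi_fintype, mul_comm]) (by rw [h3 _ _ _ (by simp), hd]; simp [disc_qDiag]))) ?_
      rw [val_O_even hQ h2 hm, if_pos hd]; omega
    · obtain ⟨a, ha⟩ := exists_not_isSquare h2
      have h4 : ∀ i, ![1, a] i ≠ 0 := by simp [Fin.forall_fin_two, ne_zero_of_not_isSquare ha]
      have h5 : disc (qDiag ![1, a]) = -1 := by
        simp [disc_qDiag, sqsign_sq_mul h2, sqsign_of_not_isSquare ha]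
      refine key m 2 _ h4 (by have := h.resolve_right fun e => hd e.2; omega) le_rfl (nonempty_O_equiv
        (equivalent_of_disc_eq hQ (nd_plSum h2 (nd_qDiag h2 h4)) h2 (by
          simp [hm, finrank_pi_fintype]; ring) (by
            rw [h3 _ _ _ h4, h5]; exact (Int.units_eq_one_or _).resolve_left hd))) ?_
      rw [val_O_even hQ h2 hm, if_neg hd, val_O_even (nd_qDiag h2 h4) h2 (m := 0) (by simp), h5]
      simp [add_comm]
  · refine key m 1 1 (by simp) (by omega) (by omega) (nonempty_O_equiv_of_odd hQ (nd_plSum h2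
      (nd_qDiag h2 (by simp))) ⟨m, hm⟩ (by simp [hm, finrank_pi_fintype, mul_comm])) ?_
    rw [val_O_odd hQ hm, val_O_odd (nd_qDiag h2 (by simp)) (m := 0) (by simp)]
    simp [add_comm]

end Cfsg.Lib.Wr
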