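import Cfsg.Agent.Lib.Wr.Lin
import Cfsg.Agent.Lib.PSL2.SL
import Cfsg.Agent.Lib.Perm.Module
import Cfsg.Agent.Lib.Symp.Group

/-!
# Sylow `2`-subgroups of symplectic and special linear groups in odd characteristic
-/

set_option autoImplicit false

namespace Cfsg.Lib.Wr

open Subgroup Module
open Equiv (Perm)
open scoped commutatorElement

theorem quaternion_sq_mem {n : ℕ} (hn : Even n) (x : QuaternionGroup n) :
    x ^ 2 ∈ commutator (QuaternionGroup n) := by
  have h : ∀ i, (QuaternionGroup.a (i + i) : QuaternionGroup n) ∈ commutator _ := fun i => by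
    have := commutator_mem_commutator (mem_top (QuaternionGroup.a i)) (mem_top (.xa 0))
    rwa [show ⁅QuaternionGroup.a i, QuaternionGroup.xa 0⁆ = .a (i + i) by
      rw [commutatorElement_def, mul_inv_eq_iff_eq_mul, mul_inv_eq_iff_eq_mul]; simp] at this
  obtain ⟨k, hk⟩ := hn
  rcases x with i | i
  · simpa [pow_two] using h i
  · rw [QuaternionGroup.xa_sq]; convert h k; rw [← Nat.cast_add, ← hk]

variable {F U V : Type*} [Field F] [Finite F] [AddCommGroup U] [Module F U] [AddCommGroup V]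
  [Module F V] [FiniteDimensional F U] [FiniteDimensional F V] (hq : Odd (Nat.card F))
include hq

theorem sylEA_SL2 : SylEA 2 (SLk F (Fin 2 → F)) := by
  refine SylEA.congr (fun S x hx => ?_) (slEquiv (Pi.basisFun F (Fin 2)))
  obtain ⟨V, hV⟩ := PSL2.exists_four_psl hq
  obtain ⟨k, hk, ⟨e⟩⟩ := PSL2.quaternion_sylow_of_four hq (H := ⊤) hV (by
    rw [← MonoidHom.range_eq_map, MonoidHom.range_eq_top.2 PSL2.toL_surjective]; exact le_top)
    (S.subtype le_top)
  have e' := (subgroupOfEquivOfLe (le_top (a := S.1))).symm.trans e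
  refine mem_pw.2 ⟨hx, (coe_mem_commutator (y := ⟨x, hx⟩ ^ 2)).2 ?_⟩
  have := mem_map_of_mem e'.symm.toMonoidHom
    (quaternion_sq_mem ((Nat.even_pow' (by omega)).2 even_two) (e' ⟨x, hx⟩))
  rw [_root_.commutator, map_commutator] at this
  simpa [_root_.commutator] using commutator_mono le_top le_top this

omit hq [Finite F] in
theorem det_τ {ι : Type*} [Finite ι] (t : Perm ι) :
    (linData F (Fin 2 → F) U ι).τ t ∈ SLk F ((ι → Fin 2 → F) × U) :=
  Abelianization.commutator_subset_ker (LinearEquiv.det.comp (cperm F U ι (Fin 2)))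
    (prodCongr_mem_commutator t)

theorem inc_mem_pw_SL {ι : Type*} [Finite ι] [DecidableEq ι]
    (D : Sylow 2 ((Fin 2 → F) ≃ₗ[F] (Fin 2 → F))) {E : Subgroup (U ≃ₗ[F] U)} {T : Subgroup (Perm ι)}
    (i : ι) {d : (Fin 2 → F) ≃ₗ[F] (Fin 2 → F)} (hd : d ∈ (D : Subgroup _))
    (h : LinearEquiv.det d = 1) : (linData F (Fin 2 → F) U ι).inc i d ∈
      pw 2 ((linData F (Fin 2 → F) U ι).S D E T ⊓ SLk F _) :=
  Data.inc_mem_pw _ i (fun y hy => (det_inc i y).trans hy) ((sylEA_SL2 hq).inf_le D ⟨hd, h⟩)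

theorem val_le (m : ℕ) (h : finrank F U ≤ 1) :
    padicValNat 2 (Nat.card (((Fin m → Fin 2 → F) × U) ≃ₗ[F] ((Fin m → Fin 2 → F) × U))) ≤
      Nat.card (Fin m) * padicValNat 2 (Nat.card ((Fin 2 → F) ≃ₗ[F] (Fin 2 → F))) +
      padicValNat 2 (Nat.card (U ≃ₗ[F] U)) + padicValNat 2 (Nat.card (Fin m)).factorial := by
  have h1 := val_prod_gl hq Finite.one_lt_card m
  have h2 := (val_prod_gl hq Finite.one_lt_card 1).1
  simp only [val_linearEquiv hq, finrank_prod, finrank_pi_fintype, finrank_self, Finset.sum_const,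
    Finset.card_univ, Fintype.card_fin, smul_eq_mul, mul_one, mul_comm m 2, Nat.card_fin] at h2 ⊢
  rw [h2]
  interval_cases finrank F U
  · simp [h1.1]
  · simp [h1.2]

theorem sylEA_SL_three (h4 : Nat.card F % 4 = 3) {m : ℕ} (hm : 0 < m) (h : finrank F U ≤ 1) :
    SylEA 2 (SLk F ((Fin m → Fin 2 → F) × U)) := by
  have h1 : padicValNat 2 (Nat.card F - 1) ≤ 1 := by
    rw [show Nat.card F - 1 = 2 * (Nat.card F / 2) by omega, padicValNat.mul two_ne_zero (by omega),
      padicValNat.eq_zero_of_not_dvd (n := _ / 2) (by omega), padicValNat_self]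
  have h2 : ∀ u : Fˣ, (∃ k, u ^ 2 ^ k = 1) → u = 1 ∨ u = -1 := fun u ⟨k, hk⟩ => by
    have := pow_eq_one_of_padicValNat_le (by rwa [Nat.card_units]) hk
    exact (sq_eq_one_iff.1 (congrArg Units.val this)).imp Units.ext Units.ext
  let r : (Fin 2 → F) ≃ₗ[F] (Fin 2 → F) := LinearEquiv.funCongrLeft F F (Equiv.swap 0 1)
  have hr : r ^ 2 = 1 := by ext x i; fin_cases i <;> rfl
  have hd : LinearEquiv.det r = -1 := by
    ext
    rw [LinearEquiv.coe_det, ← LinearMap.det_toMatrix', Matrix.det_fin_two]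
    simp [r]
  obtain ⟨D, hD⟩ := (IsPGroup.of_card (p := 2) (n := 1) (G := zpowers r) (by
    rw [Nat.card_zpowers, orderOf_eq_prime hr fun e => by
      simpa [r] using congrArg (fun g : (Fin 2 → F) ≃ₗ[F] (Fin 2 → F) => g ![0, 1] 0) e]; rfl)).exists_le_sylow
  replace hD := hD (mem_zpowers r)
  let W := linData F (Fin 2 → F) U (Fin m)
  let i : Fin m := ⟨0, hm⟩
  let E : Sylow 2 (U ≃ₗ[F] U) := default
  let T : Sylow 2 (Perm (Fin m)) := default
  have h3 : ∀ k, W.inc k r ^ 2 = 1 := fun k => by rw [← map_pow, hr, map_one]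
  have h5 : W.inc i r ∈ pw 2 (W.S D E T ⊓ SLk F _) ⊔ zpowers (W.inc i r) :=
    mem_sup_right (mem_zpowers _)
  have h6 : ∀ e ∈ (E : Subgroup (U ≃ₗ[F] U)), W.κ e ^ 2 = 1 := fun e he => by
    obtain ⟨k, hk⟩ := exists_pow_of_mem E.2 he
    rw [← map_pow, pow_eq_one_of_padicValNat_le _ hk, map_one]
    rw [val_linearEquiv hq]
    interval_cases finrank F U
    · simp
    · simpa using h1
  refine W.sylEA' (val_le hq m h) D E T _ (fun t _ => det_τ t) (zpowers_le.2 (W.inc_mem i hD))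
    (fun c hc hN => mem_pw_of_pow ⟨zpowers_le.2 (W.inc_mem i hD) hc, hN⟩ ?_) (fun k d hd' => ?_)
    fun e he => ?_
  · obtain ⟨n, rfl⟩ := hc
    rw [← zpow_natCast, ← zpow_mul, mul_comm, zpow_mul, zpow_natCast, h3, one_zpow]
  · rcases h2 _ (exists_pow_of_mem (D.2.map LinearEquiv.det) ⟨d, hd', rfl⟩) with e | e
    · exact mem_sup_left (inc_mem_pw_SL hq D k hd' e)
    · refine mem_sup_of_mul (map_mul (W.inc k) d r ▸ inc_mem_pw_SL hq D k (mul_mem hd' hD)
        (by simp [e, hd])) (mem_sup_of_mul (mul_mem_pw ⟨mul_mem (W.inc_mem k hD) (W.inc_mem i hD),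
          ?_⟩ (h3 k) (h3 i) (W.commute_inc fun _ => .refl _)) h5)
      simp [W, det_inc, hd]
  · rcases h2 _ (exists_pow_of_mem (E.2.map LinearEquiv.det) ⟨e, he, rfl⟩) with h7 | h7
    · exact mem_sup_left (mem_pw_of_pow ⟨W.κ_mem he, (det_κ e).trans h7⟩ (h6 e he))
    · refine mem_sup_of_mul (mul_mem_pw ⟨mul_mem (W.κ_mem he) (W.inc_mem i hD), ?_⟩ (h6 e he) (h3 i)
        (W.commute_κ _ _ _)) h5
      simp [W, det_inc, det_κ, hd, h7]

theorem sylEA_SL_pow (j : ℕ) : SylEA 2 (SLk F ((Fin (2 ^ j) → Fin 2 → F) × (Fin 0 → F))) := by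
  let W := linData F (Fin 2 → F) (Fin 0 → F) (Fin (2 ^ j))
  let D : Sylow 2 ((Fin 2 → F) ≃ₗ[F] (Fin 2 → F)) := default
  let T : Sylow 2 (Perm (Fin (2 ^ j))) := default
  refine W.sylEA' (val_le hq _ (by simp)) D default T _ (fun t _ => det_τ t)
    (K := .map (W.inc 0) D) (map_le_iff_le_comap.2 fun _ => W.inc_mem 0) ?_ (fun k d hd => ?_)
    fun e _ => by rw [Subsingleton.elim e 1, map_one]; exact one_mem _
  · rintro _ ⟨d, hd, rfl⟩ h
    exact inc_mem_pw_SL hq D 0 hd ((det_inc 0 d).symm.trans h)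
  · obtain ⟨t, ht⟩ := (Perm.sylow_isPretransitive (Nat.card_fin _) T).exists_smul_eq 0 k
    have h1 := W.τ_mem_pw (D' := D) (E' := (default : Sylow 2 _).1) (sylEA_perm T)
      (fun t _ => det_τ t) t t.2
    refine mem_sup_of_mul (y := (W.inc 0 d)⁻¹) ?_ (mem_sup_right (inv_mem ⟨d, hd, rfl⟩))
    simpa [← show t.1 0 = k from ht, ← W.conj_inc, mul_assoc] using
      mul_mem h1 (conj_mem_pw (W.inc_mem 0 hd) (inv_mem h1))

omit hq [Finite F] in
theorem nonempty_slk_equiv {n : ℕ} (h : finrank F V = n) :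
    Nonempty (SLk F V ≃* Matrix.SpecialLinearGroup (Fin n) F) :=
  ⟨(slEquiv (finBasisOfFinrankEq F V h)).symm⟩

variable (F) in
/-- The standard alternating form on a sum of planes. -/
noncomputable def altSum (ι : Type*) [Fintype ι] :
    LinearMap.BilinForm F ((ι → Fin 2 → F) × (Fin 0 → F)) :=
  ∑ i, LinearMap.BilinForm.comp (Matrix.toBilin' !![0, 1; -1, 0])
    (.proj i ∘ₗ .fst _ _ _) (.proj i ∘ₗ .fst _ _ _)

omit hq [Finite F] in
theorem altSum_apply {ι : Type*} [Fintype ι] (x y : (ι → Fin 2 → F) × (Fin 0 → F)) :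
    altSum F ι x y = ∑ i, (x.1 i 0 * y.1 i 1 - x.1 i 1 * y.1 i 0) := by
  simp [altSum, Matrix.toBilin'_apply, sub_eq_add_neg, LinearMap.sum_apply]

theorem sylEA_sp (n : ℕ) : SylEA 2 (Matrix.symplecticGroup (Fin n) F) := by
  have hA : (altSum F (Fin n)).IsAlt := fun x => by simp [altSum_apply, mul_comm]
  have hB : (altSum F (Fin n)).Nondegenerate := hA.isRefl.nondegenerate_iff_separatingLeft.2
    fun x hx => Prod.ext (funext fun i => funext fun k => by
      have h0 := hx (Pi.single i ![0, 1], 0)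
      have h1 := hx (Pi.single i ![1, 0], 0)
      rw [altSum_apply, Finset.sum_eq_single i (by simp +contextual) (by simp)] at h0 h1
      fin_cases k
      exacts [by simpa using h0, by simpa using h1]) (Subsingleton.elim _ _)
  have hV : finrank F ((Fin n → Fin 2 → F) × (Fin 0 → F)) = 2 * n := by
    simp [finrank_pi_fintype, mul_comm]
  obtain ⟨e⟩ := Symp.nonempty_isom_equiv (l := Fin n) hA hB (by simpa using hV)
  let W := (linData F (Fin 2 → F) (Fin 0 → F) (Fin n)).restrict (Symp.isom (altSum F (Fin n)))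
    (SLk F _).subtype_injective (⊥ : Subgroup _).subtype_injective (fun b _ x y => by
      rw [altSum_apply, altSum_apply]
      refine Finset.sum_congr rfl fun i _ => ?_
      have h := congrArg Units.val (b i).2
      rw [LinearEquiv.coe_det, ← LinearMap.det_toMatrix', Matrix.det_fin_two, Units.val_one] at h
      change (b i).1 (x.1 i) 0 * (b i).1 (y.1 i) 1 - (b i).1 (x.1 i) 1 * (b i).1 (y.1 i) 0 = _
      simp only [← LinearEquiv.coe_coe, ← LinearMap.toMatrix'_mulVec, Matrix.mulVec, dotProduct,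
        Fin.sum_univ_two]
      linear_combination (x.1 i 0 * y.1 i 1 - x.1 i 1 * y.1 i 0) * h) fun t x y => by
      rw [altSum_apply, altSum_apply]
      exact Equiv.sum_comp t.symm fun i => x.1 i 0 * y.1 i 1 - x.1 i 1 * y.1 i 0
  let D : Sylow 2 (SLk F (Fin 2 → F)) := default
  refine ((W.sylEA' ?_ D default default ⊤ (fun _ _ => trivial) (K := ⊥) bot_le
    (fun c hc _ => (mem_bot.1 hc) ▸ one_mem _) (fun i d hd => mem_sup_left (map_mem_pw_of_le _
      (fun y hy => mem_inf.2 ⟨W.inc_mem i hy, trivial⟩) (sylEA_SL2 hq D hd))) fun e _ => by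
        rw [Subsingleton.elim e 1, map_one]; exact one_mem _).congr topEquiv).congr e
  cases nonempty_fintype F
  have h1 := Finite.one_lt_card (α := F)
  rw [Symp.card_isom hA hB hV, val_pow_mul hq _ (prod_ne_zero h1 _ _ (by simp)), val_prod_sp hq h1,
    ← Nat.card_congr (slEquiv (Pi.basisFun F (Fin 2))).toEquiv, PSL2.card_SL2, ← pow_one (Nat.card F),
    val_pow_mul hq 1 (by simpa using Nat.sub_ne_zero_of_lt (Nat.one_lt_pow two_ne_zero h1))]
  simp

end Cfsg.Lib.Wr
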