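import Cfsg.Agent.Lib.Wr.Perm
import Cfsg.Agent.Lib.Linear.Basic

/-!
# Wreath product subgroups of linear groups; `2`-adic valuations of group orders
-/

set_option autoImplicit false

namespace Cfsg.Lib.Wr

open Subgroup Equiv Module

section Groups

variable {G ι D E : Type*} [Group G] [Group D] [Group E] {p : ℕ}

theorem mem_pw_of_sup {S N K : Subgroup G} [N.Normal] (hK : K ≤ S)
    (h1 : ∀ c ∈ K, c ∈ N → c ∈ pw p (S ⊓ N)) {x : G} (hx : x ∈ pw p (S ⊓ N) ⊔ K) (hN : x ∈ N) :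
    x ∈ pw p (S ⊓ N) :=
  mem_pw_of_closure hK h1 (X := (pw p (S ⊓ N) : Set G) ∪ K) (by
    rintro y (hy | hy)
    exacts [⟨1, one_mem _, (mul_one y).symm ▸ hy⟩, ⟨y⁻¹, inv_mem hy, by simp⟩])
    (sup_eq_closure _ K ▸ hx) hN

theorem pow_eq_one_of_padicValNat_le [Finite G] [hp : Fact p.Prime]
    (h : padicValNat p (Nat.card G) ≤ 1) {g : G} {k : ℕ} (hg : g ^ p ^ k = 1) : g ^ p = 1 := by
  obtain ⟨j, -, hj⟩ := (Nat.dvd_prime_pow hp.out).1 (orderOf_dvd_of_pow_eq_one hg)
  have := (padicValNat_dvd_iff_le Nat.card_pos.ne').1 (hj ▸ orderOf_dvd_natCard g)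
  exact orderOf_dvd_iff_pow_eq_one.1 (hj ▸ (pow_dvd_pow p (this.trans h)).trans (pow_one p).dvd)

theorem exists_pow_of_mem {P : Subgroup G} (h : IsPGroup p P) {g : G} (hg : g ∈ P) :
    ∃ k, g ^ p ^ k = 1 := let ⟨k, hk⟩ := h ⟨g, hg⟩; ⟨k, congrArg Subtype.val hk⟩

/-- `S ⊓ N` has elementary abelian abelianization for a Sylow subgroup `S`. -/
theorem SylEA.inf_le [Finite G] [Fact p.Prime] {N : Subgroup G} [hN : N.Normal] (h : SylEA p N)
    (S : Sylow p G) : ↑S ⊓ N ≤ pw p (S ⊓ N) := by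
  obtain ⟨P, hP⟩ := (S.2.comap_subtype (K := N)).exists_le_sylow
  obtain ⟨Q, hQ⟩ := P.exists_comap_subtype_eq
  obtain ⟨g, rfl⟩ := MulAction.exists_smul_eq G S Q
  have h2 : (S : Subgroup G).comap N.subtype = P := by
    refine eq_of_le_of_card_ge hP ?_
    rw [← hQ]
    refine Nat.card_le_card_of_injective (fun x => ⟨⟨g⁻¹ * x.1.1 * g⁻¹⁻¹, hN.conj_mem _ x.1.2 _⟩, ?_⟩)
      fun x y e => Subtype.ext (Subtype.ext (by simpa using e))
    obtain ⟨y, hy, e⟩ := x.2
    replace e : g * y * g⁻¹ = x.1.1 := e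
    change g⁻¹ * x.1.1 * g⁻¹⁻¹ ∈ (S : Subgroup G)
    rwa [← e, show g⁻¹ * (g * y * g⁻¹) * g⁻¹⁻¹ = y by group]
  intro x hx
  exact map_mem_pw_of_le N.subtype (fun y hy => mem_inf.2 ⟨h2.ge hy, y.2⟩)
    (h P (x := ⟨x, hx.2⟩) (h2.le hx.1))

namespace Data

variable [DecidableEq ι] (W : Data G ι D E) {D' : Subgroup D} {E' : Subgroup E}
  {T : Subgroup (Perm ι)}

/-- The `i`-th factor of the base group. -/
def inc (i : ι) : D →* G := W.β.comp ((MonoidHom.inl _ _).comp (MonoidHom.mulSingle (fun _ => D) i))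

/-- The extra factor. -/
def κ : E →* G := W.β.comp (MonoidHom.inr _ _)

theorem inc_apply (i : ι) (d : D) : W.inc i d = W.β (Pi.mulSingle i d, 1) := rfl

omit [DecidableEq ι] in
theorem κ_apply (e : E) : W.κ e = W.β (1, e) := rfl

theorem inc_mem (i : ι) {d : D} (h : d ∈ D') : W.inc i d ∈ W.S D' E' T :=
  W.β_mem (fun j => (mulSingle_mem_pi (I := Set.univ) (H := fun _ => D') i d).2 (fun _ => h) j
    trivial) (one_mem _)

omit [DecidableEq ι] in
theorem κ_mem {e : E} (h : e ∈ E') : W.κ e ∈ W.S D' E' T := W.β_mem (fun _ => one_mem _) h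

theorem commute_inc {i j : ι} {d d' : D} (h : i = j → Commute d d') :
    Commute (W.inc i d) (W.inc j d') := by
  rcases eq_or_ne i j with rfl | h1
  exacts [(h rfl).map _, ((Pi.mulSingle_commute h1 d d').map (MonoidHom.inl _ E)).map W.β]

theorem commute_κ (i : ι) (d : D) (e : E) : Commute (W.κ e) (W.inc i d) :=
  Commute.map (show Commute ((1, e) : (ι → D) × E) (_, 1) by simp [Commute, SemiconjBy]) W.β

theorem conj_inc (t : Perm ι) (i : ι) (d : D) : W.τ t * W.inc i d * (W.τ t)⁻¹ = W.inc (t i) d := by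
  rw [inc_apply, W.conj, mul_inv_cancel_right, inc_apply]
  congr 2
  ext j
  simp [Pi.mulSingle_apply, symm_apply_eq]

theorem inc_mem_pw {N : Subgroup G} {M : Subgroup D} (i : ι) (h : ∀ d ∈ M, W.inc i d ∈ N)
    {d : D} (hd : d ∈ pw p (D' ⊓ M)) : W.inc i d ∈ pw p (W.S D' E' T ⊓ N) :=
  map_mem_pw_of_le (P := D' ⊓ M) _ (fun y hy => mem_inf.2 ⟨W.inc_mem i hy.1, h y hy.2⟩) hd

theorem sylEA' [Finite G] [Finite ι] [Finite D] [Finite E] [Fact p.Prime]
    (hc : padicValNat p (Nat.card G) ≤ Nat.card ι * padicValNat p (Nat.card D) +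
    padicValNat p (Nat.card E) + padicValNat p (Nat.card ι).factorial) (D' : Sylow p D)
    (E' : Sylow p E) (T : Sylow p (Perm ι)) (N : Subgroup G) [N.Normal]
    (hT : ∀ t ∈ (T : Subgroup (Perm ι)), W.τ t ∈ N) {K : Subgroup G} (hK : K ≤ W.S D' E' T)
    (h1 : ∀ c ∈ K, c ∈ N → c ∈ pw p (W.S D' E' T ⊓ N))
    (h2 : ∀ i, ∀ d ∈ (D' : Subgroup D), W.inc i d ∈ pw p (W.S D' E' T ⊓ N) ⊔ K)
    (h3 : ∀ e ∈ (E' : Subgroup E), W.κ e ∈ pw p (W.S D' E' T ⊓ N) ⊔ K) : SylEA p N := by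
  cases nonempty_fintype ι
  exact W.sylEA hc D' E' T N (W.τ_mem_pw (sylEA_perm T) hT) fun f e hf he =>
    mem_pw_of_sup hK h1 (W.β_mem_of (fun i => h2 i _ (hf i)) (h3 e he))

end Data

/-- A product of two commuting involutions. -/
theorem mul_mem_pw {P : Subgroup G} {x y : G} (h : x * y ∈ P) (hx : x ^ 2 = 1) (hy : y ^ 2 = 1)
    (hc : Commute x y) : x * y ∈ pw 2 P := mem_pw_of_pow h (by rw [hc.mul_pow, hx, hy, one_mul])

theorem mem_sup_of_mul {M K : Subgroup G} {x y : G} (h : x * y ∈ M) (hy : y ∈ M ⊔ K) : x ∈ M ⊔ K :=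
  ((M ⊔ K).mul_mem_cancel_right hy).1 (mem_sup_left h)

end Groups

section Val

variable {q : ℕ} (hq : Odd q) (h1 : 1 < q)
include hq h1

theorem val_pow_odd {i : ℕ} (hi : Odd i) : padicValNat 2 (q ^ i - 1) = padicValNat 2 (q - 1) := by
  have h : Odd (∑ j ∈ Finset.range i, q ^ j) := by
    simpa [Finset.odd_sum_iff_odd_card_odd, hq.pow] using hi
  rw [← geom_sum_mul_of_one_le h1.le, padicValNat.mul h.pos.ne' (by omega),
    padicValNat.eq_zero_of_not_dvd h.not_two_dvd_nat, zero_add]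

theorem val_pow_even {i : ℕ} (hi : i ≠ 0) :
    padicValNat 2 (q ^ (2 * i) - 1) = padicValNat 2 (q ^ 2 - 1) + padicValNat 2 i := by
  have h2 := padicValNat.pow_two_sub_one h1 hq.not_two_dvd_nat two_ne_zero even_two
  have h3 := padicValNat.pow_two_sub_one h1 hq.not_two_dvd_nat (n := 2 * i) (by omega) (by simp)
  rw [padicValNat.mul two_ne_zero hi] at h3
  omega

omit hq in
theorem prod_ne_zero (n : ℕ) (f : ℕ → ℕ) (hf : ∀ i, f i ≠ 0) :
    ∏ i ∈ Finset.range n, (q ^ f i - 1) ≠ 0 :=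
  Finset.prod_ne_zero_iff.2 fun i _ => Nat.sub_ne_zero_of_lt (Nat.one_lt_pow (hf i) h1)

theorem val_prod_sp (n : ℕ) : padicValNat 2 (∏ i ∈ Finset.range n, (q ^ (2 * (i + 1)) - 1)) =
    n * padicValNat 2 (q ^ 2 - 1) + padicValNat 2 n.factorial := by
  induction n with
  | zero => simp
  | succ n ih =>
    rw [Finset.prod_range_succ, padicValNat.mul (prod_ne_zero h1 n _ (by simp))
      (Nat.sub_ne_zero_of_lt (Nat.one_lt_pow (by simp) h1)), ih, val_pow_even hq h1 n.succ_ne_zero,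
      Nat.factorial_succ, padicValNat.mul n.succ_ne_zero n.factorial_ne_zero]
    ring

theorem val_prod_gl (n : ℕ) : padicValNat 2 (∏ i ∈ Finset.range (2 * n), (q ^ (i + 1) - 1)) =
    n * (padicValNat 2 (q - 1) + padicValNat 2 (q ^ 2 - 1)) + padicValNat 2 n.factorial ∧
    padicValNat 2 (∏ i ∈ Finset.range (2 * n + 1), (q ^ (i + 1) - 1)) =
    n * (padicValNat 2 (q - 1) + padicValNat 2 (q ^ 2 - 1)) + padicValNat 2 (q - 1) +
      padicValNat 2 n.factorial := by
  have h : ∀ k, padicValNat 2 (∏ i ∈ Finset.range (k + 1), (q ^ (i + 1) - 1)) = padicValNat 2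
      (∏ i ∈ Finset.range k, (q ^ (i + 1) - 1)) + padicValNat 2 (q ^ (k + 1) - 1) := fun k => by
    rw [Finset.prod_range_succ, padicValNat.mul (prod_ne_zero h1 k _ (by simp))
      (Nat.sub_ne_zero_of_lt (Nat.one_lt_pow (by simp) h1))]
  rw [h, val_pow_odd hq h1 (odd_two_mul_add_one n)]
  refine (and_iff_left_of_imp fun e => by omega).2 ?_
  induction n with
  | zero => simp
  | succ n ih =>
    rw [show 2 * (n + 1) = 2 * n + 1 + 1 by ring, h, h, ih, val_pow_odd hq h1 (odd_two_mul_add_one n),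
      show 2 * n + 1 + 1 = 2 * (n + 1) by ring, val_pow_even hq h1 n.succ_ne_zero,
      Nat.factorial_succ, padicValNat.mul n.succ_ne_zero n.factorial_ne_zero]
    ring

omit h1 in
theorem val_pow_mul (k : ℕ) {c : ℕ} (hc : c ≠ 0) : padicValNat 2 (q ^ k * c) = padicValNat 2 c := by
  rw [padicValNat.mul hq.pow.pos.ne' hc, padicValNat.eq_zero_of_not_dvd hq.pow.not_two_dvd_nat,
    zero_add]

end Val

variable {F U U' V : Type*} [Field F] [AddCommGroup U] [Module F U] [AddCommGroup U'] [Module F U']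
  [AddCommGroup V] [Module F V]

variable (F U U') in
/-- Block monomial maps. -/
def linData (ι : Type*) [Nontrivial U] :
    Data (((ι → U) × U') ≃ₗ[F] ((ι → U) × U')) ι (U ≃ₗ[F] U) (U' ≃ₗ[F] U') where
  β := ⟨⟨fun b => (LinearEquiv.piCongrRight b.1).prodCongr b.2, rfl⟩, fun _ _ => rfl⟩
  τ := ⟨⟨fun t => (LinearEquiv.funCongrLeft F U t.symm).prodCongr 1, rfl⟩, fun _ _ => rfl⟩
  conj t f _ := LinearEquiv.ext fun _ => Prod.ext rfl rfl
  inj b t h := by
    classical
    obtain ⟨u, hu⟩ := exists_ne (0 : U)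
    have h1 : ∀ (x : ι → U) i, b.1 i (x i) = x (t.symm i) := fun x i =>
      congrArg (fun g : _ ≃ₗ[F] _ => (g (x, 0)).1 i) h
    refine ⟨Prod.ext (funext fun i => LinearEquiv.ext fun a => h1 (fun _ => a) i)
      (LinearEquiv.ext fun a => congrArg (fun g : _ ≃ₗ[F] _ => (g (0, a)).2) h),
      inv_eq_one.1 (Equiv.ext fun i => by_contra fun e => hu ?_)⟩
    simpa [Pi.single_eq_of_ne (show t.symm i ≠ i from e)] using h1 (Pi.single i u) i

variable (F U') in
/-- Permutations of the coordinates. -/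
def cperm (ι κ : Type*) : Perm (ι × κ) →* (((ι → κ → F) × U') ≃ₗ[F] ((ι → κ → F) × U')) where
  toFun s := (((LinearEquiv.curry F F ι κ).symm.trans (LinearEquiv.funCongrLeft F F s.symm)).trans
    (LinearEquiv.curry F F ι κ)).prodCongr 1
  map_one' := rfl
  map_mul' _ _ := rfl

theorem prodCongr_mem_commutator {ι : Type*} [Finite ι] (t : Perm ι) :
    prodCongr t (.refl (Fin 2)) ∈ commutator (Perm (ι × Fin 2)) := by
  classical
  cases nonempty_fintype ι
  exact mem_commutator_of_sign (by rw [sign_prodCongr_refl]; simp)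

theorem τ_eq_cperm {ι κ : Type*} [Nonempty κ] (t : Perm ι) :
    (linData F (κ → F) U' ι).τ t = cperm F U' ι κ (prodCongr t (.refl κ)) := rfl

variable (F V) in
/-- The special linear group. -/
noncomputable abbrev SLk : Subgroup (V ≃ₗ[F] V) := (LinearEquiv.det : (V ≃ₗ[F] V) →* Fˣ).ker

/-- Matrices of determinant one. -/
noncomputable def slEquiv {n : Type*} [Fintype n] [DecidableEq n] (b : Basis n F V) :
    Matrix.SpecialLinearGroup n F ≃* SLk F V :=
  (Matrix.SpecialLinearGroup.toLin_equiv b).trans ⟨Equiv.refl _, fun _ _ => rfl⟩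

variable [FiniteDimensional F U] [FiniteDimensional F U'] [FiniteDimensional F V]

theorem det_β {ι : Type*} [Fintype ι] [Nontrivial U] (f : ι → U ≃ₗ[F] U) (e : U' ≃ₗ[F] U') :
    LinearEquiv.det ((linData F U U' ι).β (f, e)) =
      (∏ i, LinearEquiv.det (f i)) * LinearEquiv.det e := by
  ext
  simp only [Units.val_mul, Units.coe_prod, LinearEquiv.coe_det, ← LinearMap.det_pi,
    ← LinearMap.det_prodMap]
  rfl

theorem det_inc {ι : Type*} [Finite ι] [DecidableEq ι] [Nontrivial U] (i : ι) (d : U ≃ₗ[F] U) :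
    LinearEquiv.det ((linData F U U' ι).inc i d) = LinearEquiv.det d := by
  cases nonempty_fintype ι
  rw [Data.inc_apply, det_β, map_one, mul_one, Finset.prod_eq_single i] <;>
    simp +contextual [Pi.mulSingle_eq_of_ne]

theorem det_κ {ι : Type*} [Finite ι] [Nontrivial U] (e : U' ≃ₗ[F] U') :
    LinearEquiv.det ((linData F U U' ι).κ e) = LinearEquiv.det e := by
  cases nonempty_fintype ι
  simp [Data.κ_apply, det_β]

theorem card_linearEquiv [Finite F] : Nat.card (V ≃ₗ[F] V) =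
    Nat.card F ^ (finrank F V * (finrank F V - 1) / 2) *
      ∏ i ∈ Finset.range (finrank F V), (Nat.card F ^ (i + 1) - 1) := by
  cases nonempty_fintype F
  rw [← Nat.card_congr ((Matrix.GeneralLinearGroup.toLin' (finBasis F V)).trans
    (LinearMap.GeneralLinearGroup.generalLinearEquiv F V)).toEquiv, Matrix.card_GL_field,
    Linear.prod_pow_sub_pow, Nat.card_eq_fintype_card]

theorem val_linearEquiv [Finite F] (h : Odd (Nat.card F)) : padicValNat 2 (Nat.card (V ≃ₗ[F] V)) =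
    padicValNat 2 (∏ i ∈ Finset.range (finrank F V), (Nat.card F ^ (i + 1) - 1)) := by
  rw [card_linearEquiv, val_pow_mul h _ (prod_ne_zero Finite.one_lt_card _ _ (by simp))]

instance finite_linearEquiv [Finite F] : Finite (V ≃ₗ[F] V) :=
  haveI : Finite V := Module.finite_of_finite F
  .of_injective _ DFunLike.coe_injective

end Cfsg.Lib.Wr
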