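import Cfsg.Agent.Lib.Wr.Basic

/-!
# Sylow subgroups of symmetric and alternating groups
-/

set_option autoImplicit false

namespace Cfsg.Lib.Wr

open Subgroup Equiv Equiv.Perm

/-- The imprimitive action of `(Sym A ≀ Sym ι) × Sym B`. -/
def permData (ι A B : Type*) [Nonempty A] : Data (Perm (ι × A ⊕ B)) ι (Perm A) (Perm B) where
  β := ⟨⟨fun b => Perm.sumCongr (prodCongrRight b.1) b.2, by ext (_ | _) <;> rfl⟩,
    fun _ _ => by ext (_ | _) <;> rfl⟩
  τ := ⟨⟨fun t => Perm.sumCongr (prodCongr t (.refl A)) 1, by ext (_ | _) <;> rfl⟩,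
    fun _ _ => by ext (_ | _) <;> rfl⟩
  conj t f e := by ext (⟨_, _⟩ | _) <;> simp
  inj b t h := by
    have h1 : ∀ i a, (i, b.1 i a) = (t i, a) := fun i a =>
      Sum.inl_injective (congrArg (fun g : Perm _ => g (.inl (i, a))) h)
    exact ⟨Prod.ext (funext fun i => Equiv.ext fun a => congrArg Prod.snd (h1 i a))
      (Equiv.ext fun a => Sum.inr_injective (congrArg (fun g : Perm _ => g (.inr a)) h)),
      Equiv.ext fun i => (congrArg Prod.fst (h1 i (Classical.arbitrary A))).symm⟩

variable {α : Type*} [Fintype α] [DecidableEq α] {p : ℕ} [hp : Fact p.Prime]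

theorem sign_prodCongr_refl {A : Type*} [Fintype A] [DecidableEq A] (t : Perm α) :
    sign (prodCongr t (.refl A)) = sign t ^ Fintype.card A := by
  rw [← Finset.card_univ, ← Finset.prod_const]
  exact sign_prodCongrLeft fun _ : A => t

theorem mem_commutator_of_sign {g : Perm α} (h : sign g = 1) : g ∈ commutator (Perm α) := by
  refine (closure_le _).2 (fun c hc => ?_) (closure_three_cycles_eq_alternating.ge h)
  obtain ⟨d, hd⟩ := isConj_iff.1 (isConj_of_cycleType_eq (hc.inv.cycleType.trans hc.cycleType.symm))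
  have h1 : c * c ∈ commutator (Perm α) := by
    have := commutator_mem_commutator (mem_top c) (mem_top d)
    rwa [commutatorElement_def, mul_assoc, mul_assoc, ← mul_assoc d, hd] at this
  have h2 : c ^ 3 = 1 := hc.orderOf ▸ pow_orderOf_eq_one c
  have := mul_mem h1 h1
  rwa [show c * c * (c * c) = c * c ^ 3 by simp [pow_succ, mul_assoc], h2, mul_one] at this

theorem pow_eq_one_of_card_le (h : Fintype.card α ≤ p) {P : Sylow p (Perm α)} {g : Perm α}
    (hg : g ∈ (P : Subgroup (Perm α))) : g ^ p = 1 := by
  have h1 : padicValNat p (Fintype.card α).factorial ≤ 1 := by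
    rcases h.lt_or_eq with h | h
    · simpa using (padicValNat_factorial_mul_add 0 h).le.trans (by simp)
    · simpa [h] using (padicValNat_factorial_mul (p := p) 1).le
  refine orderOf_dvd_iff_pow_eq_one.1 ((orderOf_dvd_natCard _ hg).trans ?_)
  rw [P.card_eq_multiplicity, Nat.factorization_def _ hp.out, Nat.card_perm, Nat.card_eq_fintype_card]
  exact (pow_dvd_pow p h1).trans (pow_one p).dvd

theorem sylEA_aux {k r : ℕ} (hr : r < p) (h : SylEA p (Perm (Fin k)))
    (N : Subgroup (Perm (Fin k × Fin p ⊕ Fin r))) [N.Normal] (hN : alternatingGroup _ ≤ N) :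
    SylEA p N := by
  haveI : Nonempty (Fin p) := ⟨⟨0, hp.out.pos⟩⟩
  refine (permData _ _ _).sylEA ?_ default default default N (Data.τ_mem_pw _ (h _) fun t ht => ?_)
    fun f e h1 h2 h3 => mem_pw_of_pow ⟨Data.β_mem _ h1 h2, h3⟩ ?_
  · have := padicValNat_factorial_mul (p := p) 1
    simp only [mul_one, Nat.factorial_one, padicValNat.one, zero_add] at this
    simp only [Fintype.card_perm, Nat.card_eq_fintype_card, Fintype.card_sum, Fintype.card_prod,
      Fintype.card_fin, mul_comm k p, padicValNat_factorial_mul_add k hr, padicValNat_factorial_mul,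
      this]
    omega
  · refine hN ((sign_sumCongr _ _).trans ?_)
    rw [sign_prodCongr_refl, map_one, mul_one, Fintype.card_fin, ← map_pow]
    exact alternatingGroup.commutator_perm_le (commutator_mono le_top le_top (mem_pw.1 (h _ ht)).2)
  · rw [← map_pow, show (f, e) ^ p = 1 from Prod.ext (funext fun i =>
      pow_eq_one_of_card_le (by simp) (h1 i)) (pow_eq_one_of_card_le (by simpa using hr.le) h2),
      map_one]

theorem sylEA_perm : SylEA p (Perm α) := by
  suffices h : ∀ n, SylEA p (Perm (Fin n)) from (h _).congr (Fintype.equivFin α).symm.permCongrHom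
  intro n
  induction n using Nat.strong_induction_on with
  | _ n ih =>
    rcases n.eq_zero_or_pos with rfl | hn
    · exact fun P x hx => mem_pw_of_pow hx (Subsingleton.elim _ _)
    · exact ((sylEA_aux (n.mod_lt hp.out.pos) (ih _ (Nat.div_lt_self hn hp.out.one_lt)) ⊤
        le_top).congr topEquiv).congr (Fintype.equivOfCardEq (by simp [Nat.div_add_mod'])).permCongrHom

theorem sylEA_alternating : SylEA p (alternatingGroup α) :=
  (sylEA_aux ((Fintype.card α).mod_lt hp.out.pos) (k := Fintype.card α / p) sylEA_perm _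
    le_rfl).congr (Fintype.equivOfCardEq (by simp [Nat.div_add_mod'])).altCongrHom

end Cfsg.Lib.Wr
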